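import Cfsg.Agent.Lib.Solvable.Zipper

/-!
A generalisation of Wielandt's zipper lemma (Flavell): if `A` has normal closure the whole group and
the proper subgroups generated by the conjugates of `A` inside them generate a proper subgroup, then
`A` lies in a unique maximal subgroup.
-/

set_option autoImplicit false

open Pointwise Subgroup
open Cfsg.Agent.Lib

universe u

namespace Cfsg.Agent.Lib.GenZipper

variable {G : Type u} [Group G]

theorem smul_eq_self_of_mem {g : G} {V : Subgroup G} (hg : g ∈ V) : MulAut.conj g • V = V :=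
  Coprime.conj_smul_eq_of_mem_normalizer (le_normalizer hg)

theorem subnormal_conj {B V : Subgroup G} (g : G) (h : (B.subgroupOf V).IsSubnormal) :
    ((MulAut.conj g • B).subgroupOf (MulAut.conj g • V)).IsSubnormal := by
  have h1 := h.map (f := (equivSMul (MulAut.conj g) V).toMonoidHom)
    (equivSMul (MulAut.conj g) V).surjective
  convert h1 using 1
  ext y
  simp only [mem_subgroupOf, mem_map_equiv, Coprime.mem_conj_smul]
  have hsymm : (((equivSMul (MulAut.conj g) V).symm y : V) : G) = g⁻¹ * y * g := by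
    obtain ⟨w, rfl⟩ := (equivSMul (MulAut.conj g) V).surjective y
    rw [MulEquiv.symm_apply_apply]
    show (w : G) = g⁻¹ * (MulAut.conj g • (w : G)) * g
    simp [MulAut.smul_def, mul_assoc]
  rw [hsymm]

theorem subnormal_sup [Finite G] {B C V : Subgroup G} (hB : B ≤ V) (hC : C ≤ V)
    (h1 : (B.subgroupOf V).IsSubnormal) (h2 : (C.subgroupOf V).IsSubnormal) :
    ((B ⊔ C).subgroupOf V).IsSubnormal := by
  rw [subgroupOf_sup hB hC]
  exact Subnormal.isSubnormal_sup h1 h2

theorem exists_conj_normalizing {B V : Subgroup G} (hB : B ≤ V)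
    (h : (B.subgroupOf V).IsSubnormal) (hn : ¬ V ≤ normalizer (B : Set G)) :
    ∃ g ∈ V, MulAut.conj g • B ≠ B ∧ MulAut.conj g • B ≤ normalizer (B : Set G) ∧
      MulAut.conj g • B ≤ V := by
  obtain ⟨g, hg, hgN⟩ := Solvable.Zipper.exists_conj_le_normalizer h
    fun h' => hn ((normal_subgroupOf_iff_le_normalizer hB).mp h')
  have hmap : (MulAut.conj g • B.subgroupOf V).map V.subtype = MulAut.conj (g : G) • B := by
    ext y
    constructor
    · rintro ⟨v, hv, rfl⟩
      rw [SetLike.mem_coe, Coprime.mem_conj_smul, mem_subgroupOf] at hv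
      rw [Coprime.mem_conj_smul]
      simpa using hv
    · intro hy
      rw [Coprime.mem_conj_smul] at hy
      refine ⟨⟨y, ?_⟩, ?_, rfl⟩
      · have := mul_mem (mul_mem g.2 (hB hy)) (inv_mem g.2)
        simpa [mul_assoc] using this
      · rw [SetLike.mem_coe, Coprime.mem_conj_smul, mem_subgroupOf]
        simpa using hy
  refine ⟨g, g.2, fun he => hg ?_, ?_, hmap ▸ map_subtype_le _⟩
  · exact map_injective V.subtype_injective (by rw [hmap, he, map_subgroupOf_eq_of_le hB])
  · rw [← hmap]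
    refine (Subgroup.map_mono hgN).trans ((le_normalizer_map _).trans (le_of_eq ?_))
    rw [map_subgroupOf_eq_of_le hB]

theorem coatom_eq {M L : Subgroup G} (hM : IsCoatom M) (hL : L ≠ ⊤) (h : M ≤ L) : M = L :=
  ((hM.le_iff.mp h).resolve_left hL).symm

theorem smul_isCoatom {M : Subgroup G} (hM : IsCoatom M) (g : G) :
    IsCoatom (MulAut.conj g • M) := by
  refine ⟨fun h => hM.1 ?_, fun K hK => ?_⟩
  · rw [eq_top_iff]
    intro x _
    have : g * x * g⁻¹ ∈ MulAut.conj g • M := h ▸ mem_top _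
    rw [Coprime.mem_conj_smul] at this
    simpa [mul_assoc] using this
  · have h1 : M < MulAut.conj g⁻¹ • K := by
      refine lt_of_le_of_ne ?_ fun h => hK.ne (by rw [h, ← Coprime.conj_mul_smul,
        mul_inv_cancel, Coprime.conj_one_smul])
      rw [← Coprime.conj_one_smul M, ← inv_mul_cancel g, Coprime.conj_mul_smul]
      exact pointwise_smul_le_pointwise_smul_iff.mpr hK.le
    have h2 := hM.2 _ h1
    rw [eq_top_iff]
    intro x _
    have : g⁻¹ * x * g ∈ MulAut.conj g⁻¹ • K := h2 ▸ mem_top _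
    rw [Coprime.mem_conj_smul] at this
    simpa [mul_assoc] using this

theorem eq_top_of_normal {A N : Subgroup G} (hA : normalClosure (A : Set G) = ⊤) (g : G)
    (hN : N.Normal) (h : MulAut.conj g • A ≤ N) : N = ⊤ := by
  haveI := hN
  refine top_le_iff.mp (hA ▸ normalClosure_le_normal fun a ha => ?_)
  have := hN.conj_mem _ (h (smul_mem_pointwise_smul a (MulAut.conj g) A ha)) g⁻¹
  simpa [MulAut.smul_def, mul_assoc] using this

theorem normalClosure_of_conj_le {A B : Subgroup G} (hA : normalClosure (A : Set G) = ⊤) (g : G)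
    (h : MulAut.conj g • A ≤ B) : normalClosure (B : Set G) = ⊤ :=
  eq_top_of_normal hA g normalClosure_normal (h.trans le_normalClosure)

/-- If `A` fails to be subnormal in at most one maximal overgroup, it has only one. -/
theorem unique_of_one_bad_aux [Finite G] : ∀ (n : ℕ) (A : Subgroup G), Nat.card G - Nat.card A = n →
    normalClosure (A : Set G) = ⊤ → ∀ M₀ : Subgroup G,
    (∀ M, IsCoatom M → A ≤ M → M ≠ M₀ → (A.subgroupOf M).IsSubnormal) →
    ∀ P Q : Subgroup G, IsCoatom P → IsCoatom Q → A ≤ P → A ≤ Q → P = Q := by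
  intro n
  induction n using Nat.strongRecOn with
  | ind n IH =>
  intro A hn hA M₀ hM₀ P₀ Q₀ hP₀ hQ₀ hAP₀ hAQ₀
  have hNtop : normalizer (A : Set G) ≠ ⊤ := fun h => by
    have := eq_top_of_normal hA 1 (normalizer_eq_top_iff.mp h) (Coprime.conj_one_smul A).le
    exact hP₀.1 (top_le_iff.mp (this ▸ hAP₀))
  -- joins of two conjugates are larger
  have step : ∀ g h : G, MulAut.conj h • A ≠ MulAut.conj g • A → ∀ X : Subgroup G,
      (∀ M, IsCoatom M → MulAut.conj g • A ⊔ MulAut.conj h • A ≤ M → M ≠ X →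
        ((MulAut.conj g • A ⊔ MulAut.conj h • A).subgroupOf M).IsSubnormal) →
      ∀ P Q : Subgroup G, IsCoatom P → IsCoatom Q → MulAut.conj g • A ⊔ MulAut.conj h • A ≤ P →
        MulAut.conj g • A ⊔ MulAut.conj h • A ≤ Q → P = Q := by
    intro g h hne X hX
    set B := MulAut.conj g • A ⊔ MulAut.conj h • A with hB
    have hlt : Nat.card A < Nat.card B := by
      rw [← Coprime.card_conj_smul g A]
      refine lt_of_le_of_ne (card_le_of_le le_sup_left) fun he => hne ?_
      have h1 : MulAut.conj g • A = B := Coprime.eq_of_le_of_card_le le_sup_left he.ge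
      exact Coprime.eq_of_le_of_card_le (h1 ▸ le_sup_right)
        (by rw [Coprime.card_conj_smul, Coprime.card_conj_smul])
    have := card_le_card_group B
    exact IH (Nat.card G - Nat.card B) (by omega) B rfl
      (normalClosure_of_conj_le hA g le_sup_left) X hX
  by_cases hgood : ∀ M, IsCoatom M → A ≤ M → (A.subgroupOf M).IsSubnormal
  · -- the case of the zipper lemma
    obtain ⟨L, hL, hNL⟩ := (eq_top_or_exists_le_coatom (normalizer (A : Set G))).resolve_left hNtop
    suffices ∀ M, IsCoatom M → A ≤ M → M = L by rw [this P₀ hP₀ hAP₀, this Q₀ hQ₀ hAQ₀]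
    intro M hM hAM
    by_cases hn : M ≤ normalizer (A : Set G)
    · exact coatom_eq hM hL.1 (hn.trans hNL)
    · obtain ⟨g, hgM, hne, hgN, hgle⟩ := exists_conj_normalizing hAM (hgood M hM hAM) hn
      refine step 1 g (by rwa [Coprime.conj_one_smul]) M (fun X hX hle _ => ?_) M L hM hL
        (sup_le ((Coprime.conj_one_smul A).le.trans hAM) hgle)
        (sup_le ((Coprime.conj_one_smul A).le.trans (le_normalizer.trans hNL)) (hgN.trans hNL))
      refine subnormal_sup (le_sup_left.trans hle) (le_sup_right.trans hle) ?_ ?_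
      · rw [Coprime.conj_one_smul]
        exact hgood X hX ((Coprime.conj_one_smul A).ge.trans (le_sup_left.trans hle))
      · have hA' : A ≤ MulAut.conj g⁻¹ • X := by
          rw [← Coprime.conj_one_smul A, ← inv_mul_cancel g, Coprime.conj_mul_smul]
          exact pointwise_smul_le_pointwise_smul_iff.mpr (le_sup_right.trans hle)
        have := subnormal_conj g (hgood _ (smul_isCoatom hX g⁻¹) hA')
        rwa [← Coprime.conj_mul_smul, mul_inv_cancel, Coprime.conj_one_smul] at this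
  push Not at hgood
  obtain ⟨M₁, hM₁, hAM₁, hM₁bad⟩ := hgood
  obtain rfl : M₁ = M₀ := by
    by_contra h; exact hM₁bad (hM₀ M₁ hM₁ hAM₁ h)
  -- the maximal subgroup in which a conjugate is not subnormal
  set Mx : G → Subgroup G := fun g => MulAut.conj g • M₁ with hMx
  have hMc : ∀ g, IsCoatom (Mx g) := fun g => smul_isCoatom hM₁ g
  have hMle : ∀ g, MulAut.conj g • A ≤ Mx g := fun g =>
    pointwise_smul_le_pointwise_smul_iff.mpr hAM₁
  have hMbad : ∀ g, ¬ ((MulAut.conj g • A).subgroupOf (Mx g)).IsSubnormal := fun g h => by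
    have h1 := subnormal_conj g⁻¹ h
    have he : MulAut.conj g⁻¹ • Mx g = M₁ := by
      simp only [hMx, ← Coprime.conj_mul_smul, inv_mul_cancel, Coprime.conj_one_smul]
    rw [he, ← Coprime.conj_mul_smul, inv_mul_cancel, Coprime.conj_one_smul] at h1
    exact hM₁bad h1
  have hMuniq : ∀ g X, IsCoatom X → MulAut.conj g • A ≤ X → X ≠ Mx g →
      ((MulAut.conj g • A).subgroupOf X).IsSubnormal := by
    intro g X hX hle hne
    have hA' : A ≤ MulAut.conj g⁻¹ • X := by
      rw [← Coprime.conj_one_smul A, ← inv_mul_cancel g, Coprime.conj_mul_smul]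
      exact pointwise_smul_le_pointwise_smul_iff.mpr hle
    have hne' : MulAut.conj g⁻¹ • X ≠ M₁ := fun h => hne (by
      rw [hMx]; simp only [← h, ← Coprime.conj_mul_smul, mul_inv_cancel, Coprime.conj_one_smul])
    have := subnormal_conj g (hM₀ _ (smul_isCoatom hX g⁻¹) hA' hne')
    rwa [← Coprime.conj_mul_smul, mul_inv_cancel, Coprime.conj_one_smul] at this
  have hMwd : ∀ g h, MulAut.conj g • A = MulAut.conj h • A → Mx g = Mx h := by
    intro g h e
    by_contra hne
    exact hMbad g (e ▸ hMuniq h _ (hMc g) (e ▸ hMle g) hne)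
  -- two conjugates in two maximal subgroups
  have key : ∀ g h, MulAut.conj h • A ≠ MulAut.conj g • A → ∀ P Q : Subgroup G, IsCoatom P →
      IsCoatom Q → P ≠ Q → MulAut.conj g • A ≤ P → MulAut.conj g • A ≤ Q →
      MulAut.conj h • A ≤ P → MulAut.conj h • A ≤ Q →
      MulAut.conj h • A ≤ Mx g ∧ Mx h ≠ Mx g := by
    intro g h hne P Q hP hQ hPQ hgP hgQ hhP hhQ
    by_contra hcon
    refine hPQ (step g h hne (Mx h) (fun X hX hle hXh => ?_) P Q hP hQ (sup_le hgP hhP)
      (sup_le hgQ hhQ))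
    have hXg : X ≠ Mx g := fun e => hcon ⟨e ▸ le_sup_right.trans hle, fun e' => hXh (e.trans e'.symm)⟩
    exact subnormal_sup (le_sup_left.trans hle) (le_sup_right.trans hle)
      (hMuniq g X hX (le_sup_left.trans hle) hXg) (hMuniq h X hX (le_sup_right.trans hle) hXh)
  have hnorm : ∀ g Q, IsCoatom Q → MulAut.conj g • A ≤ Q → Q ≠ Mx g →
      Mx g ⊓ Q ≤ normalizer ((MulAut.conj g • A : Subgroup G) : Set G) := by
    intro g Q hQ hgQ hne d hd
    refine Coprime.mem_normalizer_of_conj_smul_eq ?_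
    by_contra h
    rw [← Coprime.conj_mul_smul] at h
    have hdQ : MulAut.conj (d * g) • A ≤ Q := by
      rw [Coprime.conj_mul_smul, ← smul_eq_self_of_mem hd.2]
      exact pointwise_smul_le_pointwise_smul_iff.mpr hgQ
    have he : Mx (d * g) = Mx g := by
      simp only [hMx, Coprime.conj_mul_smul]
      exact smul_eq_self_of_mem (V := MulAut.conj g • M₁) hd.1
    exact (key g (d * g) h (Mx g) Q (hMc g) hQ (Ne.symm hne) (hMle g) hgQ (he ▸ hMle (d * g))
      hdQ).2 he
  by_contra hPQ₀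
  obtain ⟨Q, hQ, hAQ, hQM⟩ : ∃ Q, IsCoatom Q ∧ A ≤ Q ∧ Q ≠ M₁ := by
    by_cases h : P₀ = M₁
    · exact ⟨Q₀, hQ₀, hAQ₀, fun e => hPQ₀ (h.trans e.symm)⟩
    · exact ⟨P₀, hP₀, hAP₀, h⟩
  -- `N(A) ≤ M₁`
  have hM₁self : normalizer (M₁ : Set G) = M₁ := by
    refine ((hM₁.le_iff.mp le_normalizer).resolve_left fun h => ?_)
    exact hM₁.1 (eq_top_of_normal hA 1 (normalizer_eq_top_iff.mp h)
      ((Coprime.conj_one_smul A).le.trans hAM₁))
  have hNM : normalizer (A : Set G) ≤ M₁ := fun g hg => by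
    rw [← hM₁self]
    refine Coprime.mem_normalizer_of_conj_smul_eq ?_
    have := hMwd g 1 (by rw [Coprime.conj_smul_eq_of_mem_normalizer hg, Coprime.conj_one_smul])
    simpa only [hMx, Coprime.conj_one_smul] using this
  obtain ⟨g₁, -, hg₁ne, hg₁N, hg₁Q⟩ := exists_conj_normalizing hAQ (hM₀ Q hQ hAQ hQM)
    fun h => hQM (coatom_eq hQ hM₁.1 (h.trans hNM))
  -- two maximal subgroups containing as many conjugates as possible
  classical
  let Om : Subgroup G → Subgroup G → Set (Subgroup G) := fun P Q =>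
    {u : Subgroup G | (∃ g : G, MulAut.conj g • A = u) ∧ u ≤ P ∧ u ≤ Q}
  obtain ⟨⟨P, R⟩, ⟨hP, hR, hPR⟩, hbig⟩ := Set.exists_max_image
    {x : Subgroup G × Subgroup G | IsCoatom x.1 ∧ IsCoatom x.2 ∧ x.1 ≠ x.2}
    (fun x => (Om x.1 x.2).ncard) (Set.toFinite _) ⟨(M₁, Q), hM₁, hQ, Ne.symm hQM⟩
  simp only at hbig
  have htwo : 1 < (Om P R).ncard := by
    refine lt_of_lt_of_le ?_ (hbig (M₁, Q) ⟨hM₁, hQ, Ne.symm hQM⟩)
    rw [Set.one_lt_ncard_iff (Set.toFinite _)]
    exact ⟨A, MulAut.conj g₁ • A, ⟨⟨1, Coprime.conj_one_smul A⟩, hAM₁, hAQ⟩,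
      ⟨⟨g₁, rfl⟩, hg₁N.trans hNM, hg₁Q⟩, hg₁ne.symm⟩
  set S := Om P R with hS
  set W : Subgroup G := sSup S with hW
  have hmaxset : ∀ P' R', IsCoatom P' → IsCoatom R' → P' ≠ R' → W ≤ P' → W ≤ R' →
      Om P' R' = S := fun P' R' h1 h2 h3 h4 h5 => (Set.eq_of_subset_of_ncard_le
      (show S ⊆ Om P' R' from fun u hu => ⟨hu.1, (le_sSup hu).trans h4, (le_sSup hu).trans h5⟩)
      (hbig (P', R') ⟨h1, h2, h3⟩) (Set.toFinite _)).symm
  obtain ⟨u₁, u₂, hu₁, hu₂, hu12⟩ := (Set.one_lt_ncard_iff (Set.toFinite _)).mp htwo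
  obtain ⟨g₂, hg₂⟩ := hu₁.1
  have hWP : W ≤ P := sSup_le fun u hu => hu.2.1
  obtain ⟨L, hL, hNL⟩ := (eq_top_or_exists_le_coatom (normalizer (W : Set G))).resolve_left
    fun h => hP.1 (top_le_iff.mp
      ((eq_top_of_normal hA g₂ (normalizer_eq_top_iff.mp h) (hg₂.le.trans (le_sSup hu₁))) ▸ hWP))
  have hkeyS : ∀ g h, MulAut.conj g • A ∈ S → MulAut.conj h • A ∈ S →
      MulAut.conj h • A ≠ MulAut.conj g • A → MulAut.conj h • A ≤ Mx g ∧ Mx h ≠ Mx g :=
    fun g h hg hh hne => key g h hne P R hP hR hPR hg.2.1 hg.2.2 hh.2.1 hh.2.2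
  obtain ⟨gy, hy, hyL⟩ : ∃ g, MulAut.conj g • A ∈ S ∧ Mx g ≠ L := by
    by_contra h; push Not at h
    obtain ⟨g₃, hg₃⟩ := hu₂.1
    exact (hkeyS g₂ g₃ (hg₂.symm ▸ hu₁) (hg₃.symm ▸ hu₂) (by rw [hg₂, hg₃]; exact hu12.symm)).2
      ((h g₃ (hg₃.symm ▸ hu₂)).trans (h g₂ (hg₂.symm ▸ hu₁)).symm)
  set y := MulAut.conj gy • A with hydef
  set My := Mx gy with hMy
  have hSMy : ∀ u ∈ S, u ≤ My := by
    intro u hu
    obtain ⟨g, rfl⟩ := hu.1
    by_cases he : MulAut.conj g • A = y
    · rw [he]; exact hMle gy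
    · exact (hkeyS gy g hy hu he).1
  have hWMy : W ≤ My := sSup_le hSMy
  have hWL : W ≤ L := le_normalizer.trans hNL
  have hOm : Om My L = S := hmaxset My L (hMc gy) hL hyL hWMy hWL
  have hyD : y ≤ L := (le_sSup hy).trans hWL
  set S₀ := S \ {y} with hS₀
  set W₀ : Subgroup G := sSup S₀ with hW₀
  have hgoodS₀ : ∀ u ∈ S₀, (u.subgroupOf My).IsSubnormal := by
    rintro u ⟨hu, hne⟩
    obtain ⟨g, rfl⟩ := hu.1
    exact hMuniq g My (hMc gy) (hSMy _ hu) (hkeyS gy g hy hu hne).2.symm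
  have hW₀le : W₀ ≤ W := sSup_le_sSup Set.diff_subset
  have hW₀sn : (W₀.subgroupOf My).IsSubnormal := by
    have : W₀.subgroupOf My = sSup ((fun u : Subgroup G => u.subgroupOf My) '' S₀) := by
      apply map_injective My.subtype_injective
      rw [map_subgroupOf_eq_of_le (hW₀le.trans hWMy), hW₀, sSup_image, Subgroup.map_iSup,
        sSup_eq_iSup]
      refine iSup_congr fun u => ?_
      rw [Subgroup.map_iSup]
      exact iSup_congr fun hu => (map_subgroupOf_eq_of_le (hSMy u hu.1)).symm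
    rw [this]
    exact Subnormal.isSubnormal_sSup (by rintro _ ⟨u, hu, rfl⟩; exact hgoodS₀ u hu)
  -- conjugates lying in `My ⊓ L` and subnormal in `My`
  have hmem₀ : ∀ u ∈ S₀, ∀ g ∈ My, MulAut.conj g • u ≤ L → MulAut.conj g • u ∈ S₀ := by
    intro u hu g hg hgL
    have hgMy : MulAut.conj g • u ≤ My := by
      rw [← smul_eq_self_of_mem hg]
      exact pointwise_smul_le_pointwise_smul_iff.mpr (hSMy u hu.1)
    obtain ⟨k, rfl⟩ := hu.1.1
    refine ⟨hOm ▸ ⟨⟨g * k, Coprime.conj_mul_smul g k A⟩, hgMy, hgL⟩, fun he => hMbad gy ?_⟩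
    have h1 := subnormal_conj g (hgoodS₀ _ hu)
    rw [smul_eq_self_of_mem hg, Set.mem_singleton_iff.mp he] at h1
    exact h1
  obtain ⟨z, hzMy, hzL, hzN⟩ : ∃ z, z ∈ My ∧ z ∉ L ∧ MulAut.conj z • W₀ = W₀ := by
    by_contra hcon
    push Not at hcon
    have hle : ∀ g ∈ My, g ∈ normalizer (W₀ : Set G) → g ∈ L := fun g h1 h2 => by
      by_contra h3
      exact hcon g h1 h3 (Coprime.conj_smul_eq_of_mem_normalizer h2)
    obtain ⟨g, hg, hgne, hgN, hgMy⟩ := exists_conj_normalizing (hW₀le.trans hWMy) hW₀sn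
      fun h => hyL (coatom_eq (hMc gy) hL.1 fun x hx => hle x hx (h hx))
    refine hgne (Coprime.eq_of_le_of_card_le ?_ (Coprime.card_conj_smul g W₀).ge)
    rw [pointwise_smul_subset_iff]
    refine sSup_le fun u hu => ?_
    rw [← pointwise_smul_subset_iff]
    have hsub : MulAut.conj g • u ≤ MulAut.conj g • W₀ :=
      pointwise_smul_le_pointwise_smul_iff.mpr (le_sSup hu)
    exact le_sSup (hmem₀ u hu g hg fun x hx => hle x (hgMy (hsub hx)) (hgN (hsub hx)))
  -- the final contradiction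
  obtain ⟨u, hu⟩ : S₀.Nonempty := by
    by_contra h
    rw [Set.not_nonempty_iff_eq_empty, hS₀, Set.diff_eq_empty] at h
    exact hu12 ((Set.mem_singleton_iff.mp (h hu₁)).trans (Set.mem_singleton_iff.mp (h hu₂)).symm)
  have hzu : MulAut.conj z • u ∈ S₀ := hmem₀ u hu z hzMy
    ((pointwise_smul_le_pointwise_smul_iff.mpr (le_sSup hu)).trans
      ((le_of_eq hzN).trans (hW₀le.trans hWL)))
  obtain ⟨k, rfl⟩ := hu.1.1
  rw [← Coprime.conj_mul_smul] at hzu
  have hzy : MulAut.conj z • y ≤ Mx (z * k) := by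
    simp only [hMx, Coprime.conj_mul_smul]
    exact pointwise_smul_le_pointwise_smul_iff.mpr
      (hkeyS k gy hu.1 hy (Ne.symm hu.2)).1
  have hzyMy : MulAut.conj z • y ≤ My := by
    rw [← smul_eq_self_of_mem hzMy]
    exact pointwise_smul_le_pointwise_smul_iff.mpr (hMle gy)
  have hMk : Mx (z * k) ≠ My := (hkeyS gy (z * k) hy hzu.1 hzu.2).2
  have hWMk : W ≤ Mx (z * k) := sSup_le fun v hv => by
    obtain ⟨g, rfl⟩ := hv.1
    by_cases he : MulAut.conj g • A = MulAut.conj (z * k) • A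
    · rw [he]; exact hMle _
    · exact (hkeyS (z * k) g hzu.1 hv he).1
  have hzyS : MulAut.conj z • y ∈ S := (hmaxset My (Mx (z * k)) (hMc gy) (hMc _) hMk.symm hWMy hWMk)
    ▸ ⟨⟨z * gy, Coprime.conj_mul_smul z gy A⟩, hzyMy, hzy⟩
  have hzy_eq : MulAut.conj z • y = y := by
    by_contra he
    rw [hydef, ← Coprime.conj_mul_smul] at he hzyS
    refine (hkeyS gy (z * gy) hy hzyS he).2 ?_
    simp only [hMx, hMy, Coprime.conj_mul_smul]
    exact smul_eq_self_of_mem hzMy
  refine hzL (hNL (Coprime.mem_normalizer_of_conj_smul_eq ?_))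
  have hWeq : W = y ⊔ W₀ := by
    refine le_antisymm (sSup_le fun v hv => ?_) (sup_le (le_sSup hy) hW₀le)
    by_cases he : v = y
    · exact he ▸ le_sup_left
    · exact le_trans (le_sSup (show v ∈ S₀ from ⟨hv, he⟩)) le_sup_right
  rw [hWeq, smul_sup, hzy_eq, hzN]

theorem unique_of_one_bad [Finite G] {A : Subgroup G} (hA : normalClosure (A : Set G) = ⊤)
    (M₀ : Subgroup G)
    (h : ∀ M, IsCoatom M → A ≤ M → M ≠ M₀ → (A.subgroupOf M).IsSubnormal)
    {P Q : Subgroup G} (hP : IsCoatom P) (hQ : IsCoatom Q) (hAP : A ≤ P) (hAQ : A ≤ Q) : P = Q :=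
  unique_of_one_bad_aux _ A rfl hA M₀ h P Q hP hQ hAP hAQ

/-- Flavell: if the proper overgroups `H` with `A ^ H = H` generate a proper subgroup, then `A` is
contained in only one maximal subgroup. -/
theorem unique_coatom [Finite G] : ∀ (n : ℕ) (A : Subgroup G), Nat.card G - Nat.card A = n →
    normalClosure (A : Set G) = ⊤ → A ≠ ⊤ →
    sSup {H : Subgroup G | A ≤ H ∧ H ≠ ⊤ ∧
      normalClosure ((A.subgroupOf H : Subgroup H) : Set H) = ⊤} ≠ ⊤ →
    ∀ P Q : Subgroup G, IsCoatom P → IsCoatom Q → A ≤ P → A ≤ Q → P = Q := by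
  intro n
  induction n using Nat.strongRecOn with
  | ind n IH =>
  intro A hn hA hAtop hsup P Q hP hQ hAP hAQ
  set 𝒮 := {H : Subgroup G | A ≤ H ∧ H ≠ ⊤ ∧
      normalClosure ((A.subgroupOf H : Subgroup H) : Set H) = ⊤} with h𝒮
  obtain ⟨M₀, hM₀, hJM₀⟩ := (eq_top_or_exists_le_coatom (sSup 𝒮)).resolve_left hsup
  refine unique_of_one_bad hA M₀ (fun M hM hAM hne => ?_) hP hQ hAP hAQ
  -- the subnormal closure of `A` in `M`
  obtain ⟨T, hTM, hT⟩ := (Set.toFinite {T : Subgroup G | A ≤ T ∧ T ≤ M ∧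
      (T.subgroupOf M).IsSubnormal}).exists_le_minimal (a := M)
    ⟨hAM, le_rfl, by rw [subgroupOf_self]; exact IsSubnormal.top⟩
  obtain ⟨⟨hAT, hTM', hTsn⟩, hTmin⟩ := hT
  by_contra hbad
  have hAT' : A ≠ T := fun e => hbad (e ▸ hTsn)
  -- `A ^ T = T`
  set K := normalClosure ((A.subgroupOf T : Subgroup T) : Set T) with hK
  have hKtop : K = ⊤ := by
    have hKsn : ((K.map T.subtype).subgroupOf T).IsSubnormal := by
      rw [subgroupOf, comap_map_eq_self_of_injective T.subtype_injective]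
      exact normalClosure_normal.isSubnormal
    have hKM : ((K.map T.subtype).subgroupOf M).IsSubnormal := by
      refine IsSubnormal.trans (K := T.subgroupOf M)
        (comap_mono (map_subtype_le K)) ?_ hTsn
      have := hKsn.comap (subgroupOfEquivOfLe hTM').toMonoidHom
      convert this using 1
      ext x
      rfl
    have hAK : A ≤ K.map T.subtype := fun a ha =>
      ⟨⟨a, hAT ha⟩, le_normalClosure (show (⟨a, hAT ha⟩ : T) ∈ A.subgroupOf T from ha), rfl⟩
    have hle := hTmin ⟨hAK, (map_subtype_le K).trans hTM', hKM⟩ (map_subtype_le K)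
    rw [eq_top_iff]
    intro t _
    obtain ⟨k, hk, hkt⟩ := hle t.2
    exact (Subtype.ext hkt : k = t) ▸ hk
  have hTtop : T ≠ ⊤ := fun e => hM.1 (top_le_iff.mp (e ▸ hTM'))
  have hTJ : T ≤ sSup 𝒮 := le_sSup ⟨hAT, hTtop, hKtop⟩
  have hlt : Nat.card A < Nat.card T := lt_of_le_of_ne (card_le_of_le hAT) fun e =>
    hAT' (Coprime.eq_of_le_of_card_le hAT e.ge)
  have := card_le_card_group T
  refine hne (IH (Nat.card G - Nat.card T) (by omega) T rfl
    (normalClosure_of_conj_le hA 1 ((Coprime.conj_one_smul A).le.trans hAT)) hTtop ?_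
    M M₀ hM hM₀ hTM' (hTJ.trans hJM₀))
  refine fun h => hsup (top_le_iff.mp (h ▸ sSup_le_sSup ?_))
  rintro H ⟨hTH, hHtop, hH⟩
  refine ⟨hAT.trans hTH, hHtop, ?_⟩
  rw [eq_top_iff, ← hH]
  refine normalClosure_le_normal fun t ht => ?_
  have hAH : (normalClosure ((A.subgroupOf H : Subgroup H) : Set H)).comap
      (inclusion hTH) = ⊤ := by
    rw [eq_top_iff, ← hKtop]
    exact normalClosure_le_normal fun a ha => le_normalClosure
      (show inclusion hTH a ∈ A.subgroupOf H from ha)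
  have hmem : (⟨(t : G), ht⟩ : T) ∈ (normalClosure ((A.subgroupOf H : Subgroup H) : Set H)).comap
      (inclusion hTH) := by rw [hAH]; exact mem_top _
  exact hmem

end Cfsg.Agent.Lib.GenZipper
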